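/-
A reflection group over the field with three elements, modulo its centre, gives coordinates for
its class of reflections; the coordinates pass to every member one step up.
-/
import Cfsg.Agent.H71.Fischer.Chart
import Cfsg.Agent.H44.Fischer.ReflCard
import Cfsg.Agent.H5.TT.Tower
import Cfsg.Agent.H65.Fischer.Basic

set_option autoImplicit false
set_option linter.unusedSectionVars false

namespace H73.Fischer

open Cfsg H43 H99.ReflThree H71.Fischer
open H5.TT.Fac (Down qD im Desc)

universe u

local instance factThreeChartRefl : Fact (Nat.Prime 3) := ⟨Nat.prime_three⟩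

/-- Coordinates are carried along an isomorphism. -/
theorem chart_map {A B : Type u} [Group A] [Group B] {S : Set A} {n : ℕ} {f : Form3 n}
    {pt : V3 n → A} (h : Chart S f pt) (φ : A ≃* B) : Chart (φ '' S) f fun v => φ (pt v) := by
  refine ⟨fun v hv => ⟨_, h.mem v hv, rfl⟩, ?_, fun a b ha hb => ?_, fun a b ha hb h1 h2 => ?_,
    fun a b ha hb => ?_⟩
  · rintro _ ⟨a, ha, rfl⟩
    obtain ⟨v, hv, rfl⟩ := h.surj a ha
    exact ⟨v, hv, rfl⟩
  · rw [φ.injective.eq_iff]; exact h.eq_iff a b ha hb
  · rw [← h.comm a b ha hb h1 h2]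
    exact ⟨fun e => by simpa using e.map φ.symm, fun e => e.map φ⟩
  · rw [← map_mul, ← map_mul, h.conj a b ha hb]

/-- A non-zero vector orthogonal to two given ones. -/
theorem exists_orth_two {n : ℕ} (hn : 3 ≤ n) (B : LinearMap.BilinForm (ZMod 3) (V3 n))
    (u v : V3 n) : ∃ x, x ≠ 0 ∧ B u x = 0 ∧ B v x = 0 := by
  have hne : LinearMap.ker ((B u).prod (B v)) ≠ ⊥ := LinearMap.ker_ne_bot_of_finrank_lt (by
    rw [Module.finrank_prod, Module.finrank_self, Module.finrank_fin_fun]; omega)
  obtain ⟨x, hx, hx0⟩ := Submodule.exists_mem_ne_zero_of_ne_bot hne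
  have h' := LinearMap.mem_ker.1 hx
  exact ⟨x, hx0, congrArg Prod.fst h', congrArg Prod.snd h'⟩

/-- Coordinates for the projective reflection class. -/
theorem chart_of_reflCase {X : Type u} [Group X] {E : Set X} {n : ℕ} (hn : 5 ≤ n)
    (h : ReflCase X E n) : ∃ (f : Form3 n) (pt : V3 n → X), Chart E f pt := by
  classical
  obtain ⟨Q, hQ, c, hc, e, he⟩ := h
  have hQ' : (polB Q).Nondegenerate := hQ
  have hcc : c * c = 1 := zmod_sq_one c hc
  let f : Form3 n :=
    { B := (2 * c) • polB Q
      symm := fun x y => by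
        simp only [LinearMap.smul_apply]
        rw [polB_comm]
      nondeg := fun x hx => eq_zero_of_polB_eq_zero hQ' fun y => by
        have := hx y
        simp only [LinearMap.smul_apply, smul_eq_mul] at this
        exact (mul_eq_zero.1 this).resolve_left (mul_ne_zero zmod_two_ne_zero hc) }
  have hB : ∀ x y, f.B x y = 2 * c * polB Q x y := fun x y => rfl
  have hpt : ∀ v, f.Pt v ↔ Q v = c := fun v => by
    rw [Form3.Pt, hB, polB_self]
    exact (by decide : ∀ c t : ZMod 3, c ≠ 0 → (2 * c * (2 * t) = 1 ↔ t = c)) c (Q v) hc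
  have hdim : 5 ≤ Module.finrank (ZMod 3) (Fin n → ZMod 3) := by rw [Module.finrank_fin_fun]; exact hn
  have hbi := bridge_injective Q c
  have hbr := bridge_range Q c
  set R := ↥(Cfsg.reflectionSubgroup (⇑Q) c)
  set br : R →* orthGroup Q := bridge Q c
  have hex : ∀ v, ∃ r : R, Q v = c → br r = refl Q v := fun v => by
    by_cases hv : Q v = c
    · obtain ⟨r, hr⟩ := mem_range_refl hbr hv
      exact ⟨r, fun _ => hr⟩
    · exact ⟨1, fun h => absurd h hv⟩
  choose s hs using hex
  let pt : V3 n → X := fun v => e.symm (QuotientGroup.mk (s v))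
  have hE : ∀ x, x ∈ E ↔ ∃ r : R, (∃ v, Q v = c ∧ br r = refl Q v) ∧ e x = QuotientGroup.mk r := by
    intro x
    rw [← e.injective.mem_set_image (s := E), he, ← classSet_eq Q c]
    exact ⟨fun ⟨r, hr, h⟩ => ⟨r, hr, h.symm⟩, fun ⟨r, hr, h⟩ => ⟨r, hr, h.symm⟩⟩
  -- a central element fixing a non-zero vector is trivial
  have hfix : ∀ r ∈ Subgroup.center R, ∀ x, x ≠ 0 → (br r).1 x = x → br r = 1 := by
    intro r hr x hx hrx
    refine (H44.Fischer.center_scalar_refl hQ' hdim hc hbr hr).resolve_right fun hneg => ?_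
    rw [hneg, negOrth_apply] at hrx
    have h2 : (2 : ZMod 3) • x = 0 := by
      rw [two_smul]; nth_rewrite 1 [← hrx]; exact neg_add_cancel x
    exact hx ((smul_eq_zero.1 h2).resolve_left zmod_two_ne_zero)
  have hfx : ∀ u w, polB Q u w = 0 → (refl Q u).1 w = w := fun u w h => refl_fix (by rwa [polB_comm])
  refine ⟨f, pt, fun v hv => ?_, fun x hx => ?_, fun u v hu hv => ?_, fun u v hu hv h1 h2 => ?_,
    fun u v hu hv => ?_⟩
  · exact (hE _).2 ⟨s v, ⟨v, (hpt v).1 hv, hs v ((hpt v).1 hv)⟩, e.apply_symm_apply _⟩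
  · obtain ⟨r, ⟨v, hv, hr⟩, hx'⟩ := (hE x).1 hx
    refine ⟨v, (hpt v).2 hv, ?_⟩
    show e.symm _ = x
    rw [hbi (hr.trans (hs v hv).symm)] at hx'
    rw [← hx', e.symm_apply_apply]
  · rw [hpt] at hu hv
    show e.symm _ = e.symm _ ↔ _
    rw [e.symm.injective.eq_iff, QuotientGroup.eq]
    constructor
    · intro hz
      obtain ⟨x, hx, hxu, hxv⟩ := exists_orth_two (by omega) (polB Q) u v
      have h1 := hfix _ hz x hx (by
        rw [map_mul, map_inv, hs u hu, hs v hv, refl_inv, orth_mul_apply, hfx v x hxv, hfx u x hxu])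
      rw [map_mul, map_inv, hs u hu, hs v hv, inv_mul_eq_one] at h1
      have h2 : (refl Q u).1 v = (refl Q v).1 v := by rw [h1]
      rw [refl_self (hv ▸ hc), refl_apply, hu] at h2
      generalize c⁻¹ * polB Q v u = t at h2
      have h3 : t • u = (2 : ZMod 3) • v := by
        rw [two_smul, ← sub_eq_zero]
        rw [← sub_eq_zero] at h2
        rw [← neg_eq_zero, ← h2]
        abel
      have ht : t ≠ 0 := by
        rintro rfl
        rw [zero_smul, eq_comm] at h3
        exact ne_zero_of_qmap (hv ▸ hc) ((smul_eq_zero.1 h3).resolve_left zmod_two_ne_zero)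
      have h4 : v = (2 * t) • u := by
        rw [mul_smul, h3, smul_smul, show (2 : ZMod 3) * 2 = 1 by decide, one_smul]
      rcases smul_eq_or (2 * t) u (zmod_sq_one _ (mul_ne_zero zmod_two_ne_zero ht)) with h5 | h5
      · exact Or.inl (h4.trans h5).symm
      · exact Or.inr (by rw [h4.trans h5, neg_neg])
    · intro huv
      have hsame : s u = s v := hbi (by
        rw [hs u hu, hs v hv]
        rcases huv with rfl | rfl
        · rfl
        · exact refl_neg v)
      rw [hsame, inv_mul_cancel]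
      exact one_mem _
  · rw [hpt] at hu hv
    rw [hB, mul_eq_zero, or_iff_right (mul_ne_zero zmod_two_ne_zero hc),
      ← refl_commute_iff (hu ▸ hc) (hu.trans hv.symm) (Ne.symm h1)
        (fun h => h2 (by rw [h, neg_neg]))]
    constructor
    · intro hcm
      have hm : (QuotientGroup.mk (s u * s v) : R ⧸ Subgroup.center R) =
          QuotientGroup.mk (s v * s u) := by
        have := hcm.map e
        simpa [pt, Commute, SemiconjBy] using this
      obtain ⟨x, hx, hxu, hxv⟩ := exists_orth_two (by omega) (polB Q) u v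
      have h1' := hfix _ (QuotientGroup.eq.1 hm) x hx (by
        simp only [map_mul, map_inv, hs u hu, hs v hv, mul_inv_rev, refl_inv, orth_mul_apply,
          hfx v x hxv, hfx u x hxu])
      rw [map_mul, map_inv, inv_mul_eq_one, map_mul, map_mul, hs u hu, hs v hv] at h1'
      exact h1'
    · intro hcm
      have : Commute (s u) (s v) := hbi (by rw [map_mul, map_mul, hs u hu, hs v hv]; exact hcm.eq)
      exact (this.map (QuotientGroup.mk' _)).map e.symm
  · rw [hpt] at hu hv
    show e.symm _ * e.symm _ * e.symm _ = e.symm _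
    rw [← map_mul, ← map_mul, ← QuotientGroup.mk_mul, ← QuotientGroup.mk_mul]
    have hw : f.ref v u = (refl Q v).1 u := by
      rw [Form3.ref, hB, refl_apply, hv, zmod_inv_self c hc, sub_eq_add_neg, ← neg_smul]
      congr 2
      exact (by decide : ∀ c t : ZMod 3, 2 * c * t = -(c * t)) c _
    have hQw : Q (f.ref v u) = c := by rw [hw, orth_qmap, hu]
    congr 2
    refine hbi ?_
    rw [map_mul, map_mul, hs v hv, hs u hu, hs _ hQw, hw, ← refl_conj, refl_inv]

variable {G : Type u} [Group G] {D : Set G} {d : G}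

/-- Coordinates one step down lift to the partners of the member. -/
theorem chart_lift (h : Desc D d) {n : ℕ} {f : Form3 n} {pt : V3 n → Down D d}
    (hc : Chart (qD D d) f pt) : ∃ pt' : V3 n → G, Chart (H99.perp D d) f pt' := by
  classical
  have hex : ∀ v, ∃ x : G, f.Pt v → ∃ hx : x ∈ H99.perp D d, im hx = pt v := fun v => by
    by_cases hv : f.Pt v
    · obtain ⟨x, hx, hxe⟩ := H5.TT.Fac.exists_of_mem (hc.mem v hv)
      exact ⟨x, fun _ => ⟨hx, hxe.symm⟩⟩
    · exact ⟨1, fun h => absurd h hv⟩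
  choose p hp using hex
  have hm : ∀ v, f.Pt v → p v ∈ H99.perp D d := fun v hv => (hp v hv).1
  have hi : ∀ v (hv : f.Pt v), im (hm v hv) = pt v := fun v hv => (hp v hv).2
  refine ⟨p, hm, fun x hx => ?_, fun u v hu hv => ?_, fun u v hu hv h1 h2 => ?_, fun u v hu hv => ?_⟩
  · obtain ⟨v, hv, hve⟩ := hc.surj _ (H5.TT.Fac.im_mem hx)
    exact ⟨v, hv, H5.TT.Fac.im_inj h (hm v hv) hx ((hi v hv).trans hve)⟩
  · rw [← hc.eq_iff u v hu hv, ← hi u hu, ← hi v hv]
    exact ⟨fun e => by simp only [e], H5.TT.Fac.im_inj h _ _⟩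
  · rw [← hc.comm u v hu hv h1 h2, ← hi u hu, ← hi v hv]
    exact (H5.TT.Fac.im_commute h _ _).symm
  · have hcj := hc.conj u v hu hv
    have hw : f.Pt (f.ref v u) := by
      show f.B _ _ = 1
      simp only [Form3.ref, map_add, map_smul, LinearMap.add_apply, LinearMap.smul_apply, f.symm v u,
        show f.B u u = 1 from hu, show f.B v v = 1 from hv, smul_eq_mul]
      generalize f.B u v = t
      revert t; decide
    have hy := H5.TT.Fac.perp_closure_conj h (Subgroup.subset_closure (hm v hv)) (hm u hu)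
    rw [H99.tt_inv h.tt (hm v hv).1] at hy
    refine H5.TT.Fac.im_inj h hy (hm _ hw) ?_
    rw [hi _ hw, ← hcj, ← hi u hu, ← hi v hv]
    rfl

/-- Coordinates at every member, from one step down. -/
theorem chartStmt : ChartStmt.{u} := by
  intro G _ _ D d n st hn hX s hs
  obtain ⟨f, pt, hc⟩ := chart_of_reflCase hn hX
  obtain ⟨p, hp⟩ := chart_lift st.desc hc
  obtain ⟨g, rfl⟩ := H99.class_isConj st.cls st.mem hs
  refine ⟨f, fun v => MulAut.conj g (p v), ?_⟩
  have := chart_map hp (MulAut.conj g)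
  rwa [show H99.perp D (g * d * g⁻¹) = MulAut.conj g '' H99.perp D d by
    rw [← H65.Fischer.conj_image_perp st.grp.2.1]; rfl]

end H73.Fischer
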