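/-
The first step down in Fischer's classification: the partners of `d` modulo the centre of the group
they generate form a primitive centreless class of 3-transpositions with commuting graph of
diameter two.
-/
import Cfsg.Agent.H5.TT.Tower
import Cfsg.Agent.H99.TTFischer

set_option autoImplicit false
set_option linter.unusedSectionVars false

namespace H73.Fischer

open Cfsg H99
open H5.TT.Fac (Down qD im Desc NC)

variable {G : Type*} [Group G] {D : Set G}

/-- The hypotheses of Fischer's theorem at the member `d`. -/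
structure Base (D : Set G) (d : G) : Prop where
  ttg : IsThreeTranspositionGroup D
  prim : IsPrimitiveUnderConj D
  mem : d ∈ D
  partner : ∃ b ∈ D, b ≠ d ∧ Commute d b
  core2 : pCore 2 ↥(Subgroup.closure (perp D d)) ≤
    Subgroup.center ↥(Subgroup.closure (perp D d))
  core3 : pCore 3 ↥(Subgroup.closure (perp D d)) ≤
    Subgroup.center ↥(Subgroup.closure (perp D d))

variable [Finite G] {d : G} (h : Base D d)
include h

theorem cls : IsThreeTranspositionClass D := class_of_primitive h.ttg h.prim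

theorem width : ∃ a ∈ D, ∃ b ∈ D, a ≠ b ∧ Commute a b := by
  obtain ⟨b, hb, hne, hc⟩ := h.partner
  exact ⟨d, h.mem, b, hb, hne.symm, hc⟩

/-- Two partners of `d` do not commute. -/
theorem nc : NC D d := by
  by_contra hno
  have hall : ∀ x ∈ perp D d, ∀ y ∈ perp D d, Commute x y := fun x hx y hy =>
    by_contra fun hxy => hno ⟨x, hx, y, hy, hxy⟩
  have hcl := cls h
  have hconj : ∀ g : G, ∀ x ∈ D, g * x * g⁻¹ ∈ D := h.ttg.2.1
  -- commuting is an equivalence relation on `D`
  have htr : ∀ a b c, (a ∈ D ∧ b ∈ D ∧ Commute a b) → (b ∈ D ∧ c ∈ D ∧ Commute b c) →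
      a ∈ D ∧ c ∈ D ∧ Commute a c := by
    rintro a b c ⟨ha, hb, hab⟩ ⟨-, hc, hbc⟩
    refine ⟨ha, hc, ?_⟩
    by_cases hab' : a = b
    · exact hab' ▸ hbc
    by_cases hcb : c = b
    · exact hcb ▸ hab
    obtain ⟨g, hg⟩ := class_isConj hcl hb h.mem
    have h1 := perp_conj hconj g (⟨ha, hab', hab.symm⟩ : a ∈ perp D b)
    have h2 := perp_conj hconj g (⟨hc, hcb, hbc⟩ : c ∈ perp D b)
    rw [hg] at h1 h2
    exact (conj_commute_iff g a c).1 (hall _ h1 _ h2)
  obtain ⟨b, hb, hne, hc⟩ := h.partner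
  rcases rel_trivial_or_total h.prim hconj (fun a b => a ∈ D ∧ b ∈ D ∧ Commute a b)
    (fun a ha => ⟨ha, ha, Commute.refl a⟩) (fun _ _ hh => ⟨hh.2.1, hh.1, hh.2.2.symm⟩) htr
    (fun g a b hh => ⟨hconj g a hh.1, hconj g b hh.2.1, (conj_commute_iff g a b).2 hh.2.2⟩)
    h.mem with h' | h'
  · exact hne (h' b hb ⟨h.mem, hb, hc⟩)
  · exact hne (class_commute_all_subsingleton hcl h.mem (fun e he => (h' e he).2.2) hb)

theorem desc : Desc D d := (H5.TT.Fac.top_desc h.ttg h.prim h.mem (nc h)).2.2

theorem down_cls : IsThreeTranspositionClass (qD D d) := H5.TT.Fac.qD_class (desc h)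

theorem down_ttg : IsThreeTranspositionGroup (qD D d) := class_toGroup (down_cls h)

theorem down_two : pCore 2 (Down D d) = ⊥ :=
  haveI : Fact (Nat.Prime 2) := ⟨Nat.prime_two⟩
  H5.TT.Fac.down_core h.ttg h.prim h.mem h.mem 2 h.core2

theorem down_three : pCore 3 (Down D d) = ⊥ :=
  haveI : Fact (Nat.Prime 3) := ⟨Nat.prime_three⟩
  H5.TT.Fac.down_core h.ttg h.prim h.mem h.mem 3 h.core3

/-- The group one step down has trivial centre. -/
theorem down_center : Subgroup.center (Down D d) = ⊥ := by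
  rw [eq_bot_iff]
  intro q hq
  obtain ⟨⟨k, hk⟩, rfl⟩ := QuotientGroup.mk_surjective q
  rw [Subgroup.mem_bot]
  refine (H5.TT.Fac.mk_eq_one hk).2 fun w hw => ?_
  have hy := H5.TT.Fac.perp_closure_conj (desc h) hk hw
  have he : im hy = im hw := by
    have := Subgroup.mem_center_iff.1 hq (im hw)
    calc im hy = (QuotientGroup.mk ⟨k, hk⟩ : Down D d) * im hw *
          (QuotientGroup.mk ⟨k, hk⟩)⁻¹ := rfl
      _ = im hw := by rw [← this, mul_inv_cancel_right]
  exact mul_inv_eq_iff_eq_mul.1 (H5.TT.Fac.im_inj (desc h) hy hw he)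

/-- Two non-commuting partners of `d` have a common partner commuting with `d`. -/
theorem exists_common {x y : G} (hx : x ∈ perp D d) (hy : y ∈ perp D d) (hxy : ¬ Commute x y) :
    ∃ z ∈ perp D d, Commute z x ∧ Commute z y := by
  by_contra hno
  push Not at hno
  have hcl := cls h
  have hT := hcl.1
  have hconj : ∀ g : G, ∀ x ∈ D, g * x * g⁻¹ ∈ D := h.ttg.2.1
  have hbase : ∀ z ∈ D, Commute z x → Commute z y → Commute z d → z = d := fun z hz hzx hzy hzd =>
    by_contra fun hne => hno z ⟨hz, hne, hzd.symm⟩ hzx hzy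
  -- common partners of the pair do not commute
  have hiso : ∀ z ∈ D, ∀ w ∈ D, Commute z x → Commute z y → Commute w x → Commute w y →
      Commute w z → w = z := by
    intro z hz w hw hzx hzy hwx hwy hwz
    by_cases hzd : Commute z d
    · obtain rfl := hbase z hz hzx hzy hzd
      exact hbase w hw hwx hwy hwz
    · have hgx : Commute (z * d) x := hzx.mul_left hx.2.2
      have hgy : Commute (z * d) y := hzy.mul_left hy.2.2
      have hgz : z * d * z * (z * d)⁻¹ = d := by
        rw [mul_inv_rev, tt_inv hT h.mem, tt_inv hT hz]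
        calc z * d * z * (d * z) = z * (d * z * d) * z := by group
          _ = z * (z * d * z) * z := by rw [tt_braid hT h.mem hz fun e => hzd e.symm]
          _ = z * z * d * (z * z) := by group
          _ = d := by rw [tt_mul_self hT hz, one_mul, mul_one]
      have hfix : ∀ u, Commute (z * d) u → z * d * u * (z * d)⁻¹ = u := fun u hu => by
        rw [hu.eq, mul_inv_cancel_right]
      have := hbase (z * d * w * (z * d)⁻¹) (hconj _ w hw)
        (by rw [← hfix x hgx]; exact (conj_commute_iff _ w x).2 hwx)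
        (by rw [← hfix y hgy]; exact (conj_commute_iff _ w y).2 hwy)
        (by have h5 := (conj_commute_iff (z * d) w z).2 hwz; rwa [hgz] at h5)
      exact mul_left_cancel (mul_right_cancel (this.trans hgz.symm))
  -- commuting is transitive on the partners
  have htr : ∀ a ∈ perp D d, ∀ b ∈ perp D d, ∀ c ∈ perp D d,
      Commute a b → Commute b c → Commute a c := by
    intro a ha b hb c hc hab hbc
    by_contra hac
    obtain ⟨g, hg⟩ := class_isConj hcl ha.1 hx.1
    have hgc : ¬ Commute x (g * c * g⁻¹) := hg ▸ fun e => hac ((conj_commute_iff g a c).1 e)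
    obtain ⟨k, hk, hky⟩ := (rank_three hcl h.prim (width h) hx.1).2 _ (hconj g c hc.1) y hy.1
      hgc hxy
    have hkx : k * x * k⁻¹ = x := by rw [hk.eq, mul_inv_cancel_right]
    have hmap : ∀ u, Commute u a → Commute u c →
        Commute (k * (g * u * g⁻¹) * k⁻¹) x ∧ Commute (k * (g * u * g⁻¹) * k⁻¹) y := by
      intro u hua huc
      refine ⟨?_, ?_⟩
      · rw [← hkx, conj_commute_iff k, ← hg, conj_commute_iff g]; exact hua
      · rw [← hky, conj_commute_iff k, conj_commute_iff g]; exact huc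
    obtain ⟨e1, e2⟩ := hmap b hab.symm hbc
    obtain ⟨e3, e4⟩ := hmap d ha.2.2 hc.2.2
    have e5 := hiso _ (hconj k _ (hconj g d h.mem)) _ (hconj k _ (hconj g b hb.1)) e3 e4 e1 e2
      ((conj_commute_iff k _ _).2 ((conj_commute_iff g _ _).2 hb.2.2.symm))
    exact hb.2.1 (mul_left_cancel (mul_right_cancel (mul_left_cancel (mul_right_cancel e5))))
  -- hence no two different partners commute
  have hDc := desc h
  have hV : H5.TT.Fac.NoTwin (qD D d) :=
    H5.TT.Fac.noTwin_of_pCore (down_cls h) (H5.TT.Fac.qD_two hDc) (down_two h)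
  have hone : ∀ a ∈ perp D d, ∀ b ∈ perp D d, Commute a b → a = b := by
    intro a ha b hb hab
    refine H5.TT.Fac.im_inj hDc ha hb ?_
    refine hV _ (H5.TT.Fac.im_mem hb) _ (H5.TT.Fac.im_mem ha) fun q hq => ?_
    obtain ⟨c, hc, rfl⟩ := H5.TT.Fac.exists_of_mem hq
    rw [H5.TT.Fac.im_commute hDc ha hc, H5.TT.Fac.im_commute hDc hb hc]
    exact ⟨fun e => htr b hb a ha c hc hab.symm e, fun e => htr a ha b hb c hc hab e⟩
  have hT' := (down_cls h).1
  have hm : im hx * im hy ∈ pCore 3 (Down D d) := width_one_mem_pCore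
    (fun q hq => tt_mul_self hT' hq) (fun g q hq => class_conj_mem (down_cls h) g hq)
    (fun u hu v hv => by
      obtain ⟨a, ha, rfl⟩ := H5.TT.Fac.exists_of_mem hu
      obtain ⟨b, hb, rfl⟩ := H5.TT.Fac.exists_of_mem hv
      by_cases hab : Commute (im ha) (im hb)
      · obtain rfl := hone a ha b hb ((H5.TT.Fac.im_commute hDc ha hb).1 hab)
        rw [tt_mul_self hT' hu, one_pow]
      · exact tt_cube_of_not_commute hT' hu hv hab)
    (H5.TT.Fac.im_mem hx) (H5.TT.Fac.im_mem hy)
  rw [down_three h, Subgroup.mem_bot] at hm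
  have he : im hx = im hy := by
    rw [eq_inv_of_mul_eq_one_left hm, tt_inv hT' (H5.TT.Fac.im_mem hy)]
  exact hxy (H5.TT.Fac.im_inj hDc hx hy he ▸ Commute.refl x)

/-- The commuting graph one step down has diameter at most two. -/
theorem down_common {s t : Down D d} (hs : s ∈ qD D d) (ht : t ∈ qD D d) (hst : ¬ Commute s t) :
    ∃ u ∈ qD D d, Commute s u ∧ Commute u t := by
  obtain ⟨x, hx, rfl⟩ := H5.TT.Fac.exists_of_mem hs
  obtain ⟨y, hy, rfl⟩ := H5.TT.Fac.exists_of_mem ht
  obtain ⟨z, hz, hzx, hzy⟩ :=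
    exists_common h hx hy fun e => hst ((H5.TT.Fac.im_commute (desc h) hx hy).2 e)
  exact ⟨im hz, H5.TT.Fac.im_mem hz, (H5.TT.Fac.im_commute (desc h) hx hz).2 hzx.symm,
    (H5.TT.Fac.im_commute (desc h) hz hy).2 hzy⟩

theorem down_connected : (commutingGraph (qD D d)).Connected := by
  have hadj : ∀ a b : qD D d, Commute (a : Down D d) b → (commutingGraph (qD D d)).Reachable a b := by
    intro a b hab
    by_cases he : a = b
    · exact he ▸ SimpleGraph.Reachable.refl _
    · refine SimpleGraph.Adj.reachable ?_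
      rw [commutingGraph, SimpleGraph.fromRel_adj]
      exact ⟨he, Or.inl hab⟩
  obtain ⟨a, ha, -⟩ := H5.TT.Fac.qD_two (desc h)
  haveI : Nonempty (qD D d) := ⟨⟨a, ha⟩⟩
  refine SimpleGraph.Connected.mk fun a b => ?_
  by_cases hab : Commute (a : Down D d) b
  · exact hadj a b hab
  · obtain ⟨u, hu, h1, h2⟩ := down_common h a.2 b.2 hab
    exact (hadj a ⟨u, hu⟩ h1).trans (hadj _ b h2)

theorem down_width : ∃ a ∈ qD D d, ∃ b ∈ qD D d, a ≠ b ∧ Commute a b := by
  obtain ⟨x, hx, y, hy, hxy⟩ := nc h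
  have hn : ¬ Commute (im hx) (im hy) := fun e => hxy ((H5.TT.Fac.im_commute (desc h) hx hy).1 e)
  obtain ⟨u, hu, h1, h2⟩ := down_common h (H5.TT.Fac.im_mem hx) (H5.TT.Fac.im_mem hy) hn
  exact ⟨im hx, H5.TT.Fac.im_mem hx, u, hu, fun e => hn (e ▸ h2), h1⟩

/-- One step down the class is primitive. -/
theorem down_prim : IsPrimitiveUnderConj (qD D d) := by
  have h2 : pCore 2 (Down D d) ≤ Subgroup.center (Down D d) := by simp [down_two h]
  have h3 : pCore 3 (Down D d) ≤ Subgroup.center (Down D d) := by simp [down_three h]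
  have hD2 := H5.TT.Fac.qD_two (desc h)
  obtain ⟨L, -, hL, -, -⟩ := exists_quasisimple (down_cls h) hD2 h2 h3
  exact primitive_of_index_le_two (down_cls h) hD2 h2 h3 hL
    (index_le_two_of_connected (down_cls h) hL (down_connected h))

end H73.Fischer
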