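/-
The first step of Fischer's classification in the form used by the induction.
-/
import Cfsg.Agent.H73.Fischer.Link
import Cfsg.Agent.H71.Fischer.Defs

set_option autoImplicit false

namespace H73.Fischer

open Cfsg H99
open H5.TT.Fac (Down qD)

universe u

/-- One step down, with every standing property. -/
theorem downStmt : H71.Fischer.DownStmt.{u} := by
  intro G _ _ D d h
  have b : Base D d := ⟨h.grp, h.prim, h.mem, h.wide, h.cores.2, h.cores.1⟩
  refine ⟨h, cls b, desc b, down_cls b, down_prim b, down_center b, fun a ha => ?_⟩
  obtain ⟨x, hx, y, hy, hne, hc⟩ := down_width b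
  obtain ⟨g, rfl⟩ := class_isConj (down_cls b) hx ha
  exact ⟨g * y * g⁻¹, class_conj_mem (down_cls b) g hy,
    fun e => hne (mul_left_cancel (mul_right_cancel e)).symm, (conj_commute_iff g x y).2 hc⟩

end H73.Fischer
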