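/-
In coordinates over the field with three elements the common partners of two non-commuting
members determine the second member up to the exchange by the first.
-/
import Cfsg.Agent.H71.Fischer.Chart
import Cfsg.Agent.H73.Fischer.Down

set_option autoImplicit false

namespace H73.Fischer

open Cfsg H71.Fischer
open H5.TT.Fac (Down qD)

universe u

local instance factThreeFibre : Fact (Nat.Prime 3) := ⟨Nat.prime_three⟩

/-- A subspace of dimension two or more with trivial radical contains a point. -/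
theorem exists_pt_mem {n : ℕ} (f : Form3 n) (K : Submodule (ZMod 3) (V3 n))
    (hdim : 2 ≤ Module.finrank (ZMod 3) K) (hnd : ∀ a ∈ K, a ≠ 0 → ∃ e ∈ K, f.B a e ≠ 0) :
    ∃ p ∈ K, f.Pt p := by
  have hiso : ∀ a ∈ K, a ≠ 0 → f.B a a = 0 → ∃ p ∈ K, f.Pt p := by
    intro a ha ha0 haa
    obtain ⟨e, he, hae⟩ := hnd a ha ha0
    refine ⟨e + ((1 - f.B e e) * 2 * f.B a e) • a, K.add_mem he (K.smul_mem _ ha), ?_⟩
    simp only [Form3.Pt, map_add, map_smul, LinearMap.add_apply, LinearMap.smul_apply, smul_eq_mul,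
      haa, f.symm e a]
    exact (by decide : ∀ t q : ZMod 3, t ≠ 0 → q + (1 - q) * 2 * t * t +
      (1 - q) * 2 * t * (t + (1 - q) * 2 * t * 0) = 1) _ _ hae
  have hval : ∀ q : ZMod 3, q = 0 ∨ q = 1 ∨ q = -1 := by decide
  obtain ⟨a, ha, ha0⟩ := Submodule.exists_mem_ne_zero_of_ne_bot (p := K) (by
    rintro rfl; rw [finrank_bot] at hdim; omega)
  rcases hval (f.B a a) with haa | haa | haa
  · exact hiso a ha ha0 haa
  · exact ⟨a, ha, haa⟩
  have hne : LinearMap.ker ((f.B a).comp K.subtype) ≠ ⊥ := LinearMap.ker_ne_bot_of_finrank_lt (by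
    rw [Module.finrank_self]; omega)
  obtain ⟨⟨b, hb⟩, hab, hb0⟩ := Submodule.exists_mem_ne_zero_of_ne_bot hne
  have hab' : f.B a b = 0 := LinearMap.mem_ker.1 hab
  rcases hval (f.B b b) with hbb | hbb | hbb
  · exact hiso b hb (fun h => hb0 (Subtype.ext h)) hbb
  · exact ⟨b, hb, hbb⟩
  refine ⟨a + b, K.add_mem ha hb, ?_⟩
  simp only [Form3.Pt, map_add, LinearMap.add_apply, f.symm b a, hab', haa, hbb]
  decide

/-- Two isotropic vectors orthogonal to a point with the same section there are proportional. -/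
theorem iso_eq_of_sect {n : ℕ} (hn : 5 ≤ n) (f : Form3 n) {u r r' : V3 n} (hu : f.Pt u)
    (hr0 : r ≠ 0) (hr : f.B r r = 0) (hur : f.B u r = 0) (hr' : f.B r' r' = 0) (hur' : f.B u r' = 0)
    (h : ∀ v, f.Pt v → f.B u v = 0 → f.B r v = 0 → f.B r' v = 0) : ∃ a : ZMod 3, r' = a • r := by
  by_contra hno
  push Not at hno
  by_cases ht : f.B r r' = 0
  · -- some vector separates `r'` from the point and `r`
    have hx : ∃ x, f.B u x = 0 ∧ f.B r x = 0 ∧ f.B r' x ≠ 0 := by
      by_contra hnx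
      push Not at hnx
      have hs := mem_span_of_iInf_ker_le_ker (L := ![f.B u, f.B r]) (K := f.B r') fun x hx => by
        simp only [Submodule.mem_iInf, LinearMap.mem_ker] at hx
        exact hnx x (hx 0) (hx 1)
      obtain ⟨c, hc⟩ := (Submodule.mem_span_range_iff_exists_fun (ZMod 3)).1 hs
      rw [Fin.sum_univ_two] at hc
      have hv : r' = c 0 • u + c 1 • r := sub_eq_zero.1 (f.nondeg _ fun y => by
        rw [map_sub, map_add, map_smul, map_smul, LinearMap.sub_apply, ← hc]
        simp)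
      have h0 : c 0 = 0 := by
        have := congrArg (f.B u) hv
        rw [hur', map_add, map_smul, map_smul, hur, show f.B u u = 1 from hu] at this
        simpa using this.symm
      exact hno (c 1) (by rw [hv, h0, zero_smul, zero_add])
    obtain ⟨x, hxu, hxr, hxr'⟩ := hx
    refine hxr' ?_
    have h1 := h (x + ((1 - f.B x x) * 2 * f.B r' x) • r') (by
      simp only [Form3.Pt, map_add, map_smul, LinearMap.add_apply, LinearMap.smul_apply, smul_eq_mul,
        hr', f.symm x r']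
      exact (by decide : ∀ t q : ZMod 3, t ≠ 0 → q + (1 - q) * 2 * t * t +
        (1 - q) * 2 * t * (t + (1 - q) * 2 * t * 0) = 1) _ _ hxr')
      (by rw [map_add, map_smul, hxu, hur', smul_zero, add_zero])
      (by rw [map_add, map_smul, hxr, ht, smul_zero, add_zero])
    rwa [map_add, map_smul, hr', smul_zero, add_zero] at h1
  · -- a point orthogonal to all three
    set φ : V3 n →ₗ[ZMod 3] ZMod 3 × ZMod 3 × ZMod 3 := (f.B u).prod ((f.B r).prod (f.B r'))
    set K := LinearMap.ker φ with hK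
    have hmem : ∀ x, x ∈ K ↔ f.B u x = 0 ∧ f.B r x = 0 ∧ f.B r' x = 0 := fun x => by
      rw [hK, LinearMap.mem_ker]
      simp [φ]
    have hdim : 2 ≤ Module.finrank (ZMod 3) K := by
      have h1 := φ.finrank_range_add_finrank_ker
      have h2 := Submodule.finrank_le (LinearMap.range φ)
      rw [← hK] at h1
      simp only [Module.finrank_prod, Module.finrank_self, Module.finrank_fin_fun] at h1 h2
      omega
    obtain ⟨p, hpK, hp⟩ := exists_pt_mem f K hdim fun a ha ha0 => by
      obtain ⟨hau, har, har'⟩ := (hmem a).1 ha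
      obtain ⟨e, he⟩ : ∃ e, f.B a e ≠ 0 := by
        by_contra hne
        push Not at hne
        exact ha0 (f.nondeg a hne)
      refine ⟨e - f.B u e • u - (f.B r e * f.B r r') • r' - (f.B r' e * f.B r r') • r,
        (hmem _).2 ⟨?_, ?_, ?_⟩, ?_⟩
      · simp only [map_sub, map_smul, smul_eq_mul, hur, hur', show f.B u u = 1 from hu]
        ring
      · simp only [map_sub, map_smul, smul_eq_mul, f.symm r u, hur, hr]
        rw [mul_assoc, H99.ReflThree.zmod_sq_one _ ht]
        ring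
      · simp only [map_sub, map_smul, smul_eq_mul, f.symm r' u, hur', hr', f.symm r' r]
        rw [mul_assoc (f.B r' e), H99.ReflThree.zmod_sq_one _ ht]
        ring
      · simp only [map_sub, map_smul, smul_eq_mul, f.symm a u, f.symm a r, f.symm a r', hau, har, har']
        simpa using he
    obtain ⟨hpu, hpr, hpr'⟩ := (hmem p).1 hpK
    apply ht
    have h1 := h (p + r) (by
      simp only [Form3.Pt, map_add, LinearMap.add_apply, f.symm p r, hpr, hr, show f.B p p = 1 from hp]
      ring)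
      (by rw [map_add, hpu, hur, add_zero]) (by rw [map_add, hpr, hr, add_zero])
    rwa [map_add, hpr', zero_add, f.symm] at h1

/-- Points with the same section orthogonal to a point lie on one line through it. -/
theorem point_of_sect {n : ℕ} (hn : 5 ≤ n) (f : Form3 n) {u a b : V3 n} (hu : f.Pt u) (ha : f.Pt a)
    (hb : f.Pt b) (ha1 : u ≠ a ∧ u ≠ -a) (hb1 : u ≠ b ∧ u ≠ -b)
    (hua : f.B u a ≠ 0) (hub : f.B u b ≠ 0)
    (h : ∀ v, f.Pt v → f.B u v = 0 → f.B a v = 0 → f.B b v = 0) :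
    b = a ∨ b = -a ∨ b = f.ref u a ∨ b = -f.ref u a := by
  have hsq : ∀ t : ZMod 3, t ≠ 0 → t * t = 1 := H99.ReflThree.zmod_sq_one
  -- the isotropic vector of a line through `u`
  have hiso : ∀ w, f.Pt w → (u ≠ w ∧ u ≠ -w) → f.B u w ≠ 0 →
      f.B (u - f.B u w • w) (u - f.B u w • w) = 0 ∧ f.B u (u - f.B u w • w) = 0 ∧
        u - f.B u w • w ≠ 0 := by
    intro w hw h1 huw
    refine ⟨?_, ?_, fun h0 => ?_⟩
    · simp only [map_sub, map_smul, LinearMap.sub_apply, LinearMap.smul_apply, smul_eq_mul,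
        f.symm w u, show f.B w w = 1 from hw, show f.B u u = 1 from hu, mul_one]
      linear_combination -(hsq _ huw)
    · simp only [map_sub, map_smul, smul_eq_mul, show f.B u u = 1 from hu]
      linear_combination -(hsq _ huw)
    · rw [sub_eq_zero] at h0
      rcases H99.ReflThree.smul_eq_or _ w (hsq _ huw) with h5 | h5
      · exact h1.1 (h0.trans h5)
      · exact h1.2 (h0.trans h5)
  obtain ⟨h1, h2, hr0⟩ := hiso a ha ha1 hua
  obtain ⟨h3, h4, hs0⟩ := hiso b hb hb1 hub
  obtain ⟨k, hk⟩ := iso_eq_of_sect hn f hu hr0 h1 h2 h3 h4 fun v hv huv hrv => by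
    simp only [map_sub, map_smul, LinearMap.sub_apply, LinearMap.smul_apply, smul_eq_mul, huv,
      zero_sub, neg_eq_zero] at hrv ⊢
    rw [h v hv huv ((mul_eq_zero.1 hrv).resolve_left hua), mul_zero]
  have hs := hsq _ hub
  have ht := hsq _ hua
  generalize hta : f.B u a = t at hk ht hua
  generalize f.B u b = t' at hk hs hs0 hub
  have hb' : b = t' • (u - k • (u - t • a)) := by
    rw [← hk, sub_sub_cancel, smul_smul, hs, one_smul]
  have href : f.ref u a = a + t • u := by rw [Form3.ref, f.symm a u, hta]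
  rcases (by decide : ∀ k : ZMod 3, k = 0 ∨ k = 1 ∨ k = -1) k with rfl | rfl | rfl
  · exact absurd (hk.trans (zero_smul _ _)) hs0
  · rw [one_smul, sub_sub_cancel, smul_smul] at hb'
    rcases H99.ReflThree.smul_eq_or _ a (hsq _ (mul_ne_zero hub hua)) with h5 | h5
    · exact Or.inl (hb'.trans h5)
    · exact Or.inr (Or.inl (hb'.trans h5))
  · have h6 : b = (-(t' * t)) • f.ref u a := by
      rw [hb', href, smul_add, smul_smul, show -(t' * t) * t = -t' by rw [neg_mul, mul_assoc, ht, mul_one]]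
      match_scalars
      · exact (by decide : ∀ x : ZMod 3, x * (1 - -1 * 1) = -x * 1) t'
      · ring
    rcases H99.ReflThree.smul_eq_or _ (f.ref u a)
        (hsq _ (neg_ne_zero.2 (mul_ne_zero hub hua))) with h5 | h5
    · exact Or.inr (Or.inr (Or.inl (h6.trans h5)))
    · exact Or.inr (Or.inr (Or.inr (h6.trans h5)))

/-- A section determines a member up to the exchange by the first member. -/
theorem fibreStmt : FibreStmt.{u} := by
  intro G _ _ D d n st hn hall f pt hc y hy y' hy' hdy hdy' heq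
  have hconj := st.grp.2.1
  have hw : ∃ a ∈ D, ∃ b ∈ D, a ≠ b ∧ Commute a b := by
    obtain ⟨b, hb, hne, hcb⟩ := st.wide
    exact ⟨d, st.mem, b, hb, hne.symm, hcb⟩
  -- a member commuting with `d` and `y`
  obtain ⟨s, hs⟩ : ∃ s, s ∈ H99.perp D d ∩ H99.perp D y := by
    obtain ⟨a, ha, b, hb, hab⟩ := st.desc.nc
    obtain ⟨g, hg⟩ := H99.class_isConj st.cls ha.1 st.mem
    have hdb : ¬ Commute d (g * b * g⁻¹) := fun e =>
      hab ((H99.conj_commute_iff g a b).1 (hg.symm ▸ e))
    obtain ⟨k, hk, hky⟩ :=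
      (H99.rank_three st.cls st.prim hw st.mem).2 _ (hconj g b hb.1) y hy hdb hdy
    have h1 : g * d * g⁻¹ ∈ H99.perp D d := by
      have := H99.perp_conj hconj g (⟨st.mem, Ne.symm ha.2.1, ha.2.2.symm⟩ : d ∈ H99.perp D a)
      rwa [hg] at this
    have h2 := H99.perp_conj hconj g (⟨st.mem, Ne.symm hb.2.1, hb.2.2.symm⟩ : d ∈ H99.perp D b)
    refine ⟨k * (g * d * g⁻¹) * k⁻¹, ?_, ?_⟩
    · have h3 := H99.perp_conj hconj k h1
      rwa [hk.eq, mul_inv_cancel_right] at h3
    · have h3 := H99.perp_conj hconj k h2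
      rwa [hky] at h3
  have hs' : s ∈ H99.perp D d ∩ H99.perp D y' := heq ▸ hs
  obtain ⟨g, q, hq⟩ := hall s hs.1.1
  have hflip : ∀ {z : G}, z ∈ D → s ∈ H99.perp D z → z ∈ H99.perp D s :=
    fun hz h => ⟨hz, Ne.symm h.2.1, h.2.2.symm⟩
  obtain ⟨u, hu, hud⟩ := hq.surj d (hflip st.mem hs.1)
  obtain ⟨a, ha, hay⟩ := hq.surj y (hflip hy hs.2)
  obtain ⟨b, hb, hby⟩ := hq.surj y' (hflip hy' hs'.2)
  have hne : ∀ {v w : V3 n}, g.Pt v → g.Pt w → q v ≠ q w → v ≠ w ∧ v ≠ -w := fun hv hw h =>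
    ⟨fun e => h ((hq.eq_iff _ _ hv hw).2 (Or.inl e)), fun e => h ((hq.eq_iff _ _ hv hw).2 (Or.inr e))⟩
  have hB : ∀ {w : V3 n}, g.Pt w → ¬ Commute d (q w) → g.B u w ≠ 0 := fun {w} hw h h0 => by
    obtain ⟨n1, n2⟩ := hne hu hw fun e => h (by rw [← e, hud])
    exact h (hud ▸ (hq.comm u w hu hw n1 n2).2 h0)
  have hua := hB ha (hay ▸ hdy)
  have hub := hB hb (hby ▸ hdy')
  have ha1 := hne hu ha fun e => hdy (hay ▸ hud ▸ e ▸ Commute.refl _)
  have hb1 := hne hu hb fun e => hdy' (hby ▸ hud ▸ e ▸ Commute.refl _)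
  have hsect : ∀ v, g.Pt v → g.B u v = 0 → g.B a v = 0 → g.B b v = 0 := by
    intro v hv huv hav
    have hneu : ∀ {w : V3 n}, g.Pt w → g.B u w ≠ 0 → v ≠ w ∧ v ≠ -w := fun hw hne' =>
      ⟨fun e => hne' (e ▸ huv), fun e => hne' (by rw [e, map_neg, neg_eq_zero] at huv; exact huv)⟩
    have h1 : g.B u u ≠ 0 := by rw [show g.B u u = 1 from hu]; exact one_ne_zero
    have hperp : ∀ {w : V3 n}, g.Pt w → g.B u w ≠ 0 → g.B w v = 0 → q v ∈ H99.perp D (q w) := by
      intro w hw h2 h0
      obtain ⟨n1, n2⟩ := hneu hw h2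
      refine ⟨(hq.mem v hv).1, fun e => ((hq.eq_iff v w hv hw).1 e).elim n1 n2, ?_⟩
      exact ((hq.comm v w hv hw n1 n2).2 (by rw [g.symm]; exact h0)).symm
    have hS : q v ∈ H99.perp D d ∩ H99.perp D y := by
      refine ⟨?_, ?_⟩
      · rw [← hud]; exact hperp hu h1 huv
      · rw [← hay]; exact hperp ha hua hav
    rw [heq] at hS
    obtain ⟨n1, n2⟩ := hneu hb hub
    rw [g.symm]
    exact (hq.comm v b hv hb n1 n2).1 (hby.symm ▸ hS.2.2.2.symm)
  have hr : g.Pt (g.ref u a) := by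
    simp only [Form3.Pt, Form3.ref, map_add, map_smul, LinearMap.add_apply, LinearMap.smul_apply,
      smul_eq_mul, g.symm u a, show g.B a a = 1 from ha, show g.B u u = 1 from hu]
    exact (by decide : ∀ t : ZMod 3, 1 + t * t + t * (t + t * 1) = 1) _
  have hcj : q (g.ref u a) = d * y * d := by rw [← hq.conj a u ha hu, hud, hay]
  rcases point_of_sect hn g hu ha hb ha1 hb1 hua hub hsect with h5 | h5 | h5 | h5
  · exact Or.inl (by rw [← hby, h5, hay])
  · exact Or.inl (by rw [← hby, ← hay]; exact (hq.eq_iff b a hb ha).2 (Or.inr h5))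
  · exact Or.inr (by rw [← hby, h5, hcj])
  · exact Or.inr (by rw [← hby, ← hcj]; exact (hq.eq_iff b _ hb hr).2 (Or.inr h5))

end H73.Fischer
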